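import Mathlib
import Cfsg.Agent.Lib.Helper63.Heis

set_option autoImplicit false
set_option linter.unusedSimpArgs false

namespace Cfsg.Agent.Helper89.TV

open Matrix Cfsg.Agent.Helper63

abbrev Mx (n : ℕ) := Matrix (Fin (n + 2)) (Fin (n + 2)) (ZMod 2)

variable {n : ℕ}

/-- The `k`-th middle index. -/
def mid (k : Fin n) : Fin (n + 2) := k.succ.succ

theorem one_eq : (1 : Fin (n + 2)) = Fin.succ 0 := rfl

theorem mid_ne_zero (k : Fin n) : mid k ≠ 0 := Fin.succ_ne_zero _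

theorem zero_ne_mid (k : Fin n) : (0 : Fin (n + 2)) ≠ mid k := (mid_ne_zero k).symm

theorem mid_ne_one (k : Fin n) : mid k ≠ 1 := by
  rw [one_eq]
  intro h
  exact Fin.succ_ne_zero k (Fin.succ_injective _ h)

theorem one_ne_mid (k : Fin n) : (1 : Fin (n + 2)) ≠ mid k := (mid_ne_one k).symm

theorem mid_injective : Function.Injective (mid : Fin n → Fin (n + 2)) := fun _ _ h =>
  Fin.succ_injective _ (Fin.succ_injective _ h)

@[simp] theorem mid_inj {k l : Fin n} : mid k = mid l ↔ k = l := mid_injective.eq_iff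

theorem zero_ne_one' : (0 : Fin (n + 2)) ≠ 1 := by
  rw [one_eq]; exact (Fin.succ_ne_zero _).symm

theorem sum3 {α : Type*} [AddCommMonoid α] (f : Fin (n + 2) → α) :
    ∑ i, f i = f 0 + (f 1 + ∑ k : Fin n, f (mid k)) := by
  rw [Fin.sum_univ_succ, Fin.sum_univ_succ]
  rfl

theorem cases3 {P : Fin (n + 2) → Prop} (h0 : P 0) (h1 : P 1) (h2 : ∀ k : Fin n, P (mid k)) :
    ∀ i, P i := by
  intro i
  refine Fin.cases h0 (fun i' => ?_) i
  refine Fin.cases ?_ (fun k => h2 k) i'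
  exact h1

/-- Matrix given by its nine blocks. -/
def mk9 (x00 x01 : ZMod 2) (x0 : Fin n → ZMod 2) (x10 x11 : ZMod 2) (x1 : Fin n → ZMod 2)
    (c0 c1 : Fin n → ZMod 2) (A : Matrix (Fin n) (Fin n) (ZMod 2)) : Mx n :=
  Matrix.of (Fin.cons (Fin.cons x00 (Fin.cons x01 x0) : Fin (n + 2) → ZMod 2)
    (Fin.cons (Fin.cons x10 (Fin.cons x11 x1) : Fin (n + 2) → ZMod 2)
      (fun k => (Fin.cons (c0 k) (Fin.cons (c1 k) (A k)) : Fin (n + 2) → ZMod 2))))

section mk9

variable (x00 x01 : ZMod 2) (x0 : Fin n → ZMod 2) (x10 x11 : ZMod 2) (x1 : Fin n → ZMod 2)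
  (c0 c1 : Fin n → ZMod 2) (A : Matrix (Fin n) (Fin n) (ZMod 2))

@[simp] theorem mk9_00 : mk9 x00 x01 x0 x10 x11 x1 c0 c1 A 0 0 = x00 := rfl
@[simp] theorem mk9_01 : mk9 x00 x01 x0 x10 x11 x1 c0 c1 A 0 1 = x01 := rfl
@[simp] theorem mk9_0m (l : Fin n) : mk9 x00 x01 x0 x10 x11 x1 c0 c1 A 0 (mid l) = x0 l := rfl
@[simp] theorem mk9_10 : mk9 x00 x01 x0 x10 x11 x1 c0 c1 A 1 0 = x10 := rfl
@[simp] theorem mk9_11 : mk9 x00 x01 x0 x10 x11 x1 c0 c1 A 1 1 = x11 := rfl
@[simp] theorem mk9_1m (l : Fin n) : mk9 x00 x01 x0 x10 x11 x1 c0 c1 A 1 (mid l) = x1 l := rfl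
@[simp] theorem mk9_m0 (k : Fin n) : mk9 x00 x01 x0 x10 x11 x1 c0 c1 A (mid k) 0 = c0 k := rfl
@[simp] theorem mk9_m1 (k : Fin n) : mk9 x00 x01 x0 x10 x11 x1 c0 c1 A (mid k) 1 = c1 k := rfl
@[simp] theorem mk9_mm (k l : Fin n) :
    mk9 x00 x01 x0 x10 x11 x1 c0 c1 A (mid k) (mid l) = A k l := rfl

end mk9

theorem ext9 {g h : Mx n} (h00 : g 0 0 = h 0 0) (h01 : g 0 1 = h 0 1)
    (h0m : ∀ l, g 0 (mid l) = h 0 (mid l)) (h10 : g 1 0 = h 1 0) (h11 : g 1 1 = h 1 1)
    (h1m : ∀ l, g 1 (mid l) = h 1 (mid l)) (hm0 : ∀ k, g (mid k) 0 = h (mid k) 0)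
    (hm1 : ∀ k, g (mid k) 1 = h (mid k) 1) (hmm : ∀ k l, g (mid k) (mid l) = h (mid k) (mid l)) :
    g = h := by
  ext i j
  revert j
  refine cases3 (P := fun i => ∀ j, g i j = h i j) ?_ ?_ ?_ i
  · exact cases3 (P := fun j => g 0 j = h 0 j) h00 h01 h0m
  · exact cases3 (P := fun j => g 1 j = h 1 j) h10 h11 h1m
  · intro k
    exact cases3 (P := fun j => g (mid k) j = h (mid k) j) (hm0 k) (hm1 k) (hmm k)

theorem mul_apply3 (g h : Mx n) (i j : Fin (n + 2)) :
    (g * h) i j = g i 0 * h 0 j + (g i 1 * h 1 j + ∑ m : Fin n, g i (mid m) * h (mid m) j) := by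
  rw [Matrix.mul_apply, sum3]

theorem one_00 : (1 : Mx n) 0 0 = 1 := by simp
theorem one_01 : (1 : Mx n) 0 1 = 0 := Matrix.one_apply_ne zero_ne_one'
theorem one_0m (l : Fin n) : (1 : Mx n) 0 (mid l) = 0 := Matrix.one_apply_ne (zero_ne_mid l)
theorem one_10 : (1 : Mx n) 1 0 = 0 := Matrix.one_apply_ne zero_ne_one'.symm
theorem one_11 : (1 : Mx n) 1 1 = 1 := by simp
theorem one_1m (l : Fin n) : (1 : Mx n) 1 (mid l) = 0 := Matrix.one_apply_ne (one_ne_mid l)
theorem one_m0 (k : Fin n) : (1 : Mx n) (mid k) 0 = 0 := Matrix.one_apply_ne (mid_ne_zero k)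
theorem one_m1 (k : Fin n) : (1 : Mx n) (mid k) 1 = 0 := Matrix.one_apply_ne (mid_ne_one k)
theorem one_mm (k l : Fin n) : (1 : Mx n) (mid k) (mid l) = (1 : Matrix (Fin n) (Fin n) (ZMod 2)) k l := by
  rw [Matrix.one_apply, Matrix.one_apply]
  simp

/-- The Heisenberg matrix `[[1, c, a], [0, 1, 0], [0, b, 1]]`. -/
def qmat (x : Heis n (ZMod 2)) : Mx n := mk9 1 x.c x.a 0 1 0 0 x.b 1

/-- The block-diagonal matrix `diag(1, 1, A)`. -/
def emb (A : Matrix (Fin n) (Fin n) (ZMod 2)) : Mx n := mk9 1 0 0 0 1 0 0 0 A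

theorem qmat_one : qmat (1 : Heis n (ZMod 2)) = 1 := by
  apply ext9 <;> intros <;>
    simp [qmat, one_00, one_01, one_0m, one_10, one_11, one_1m, one_m0, one_m1, one_mm]

theorem qmat_mul (x y : Heis n (ZMod 2)) : qmat (x * y) = qmat x * qmat y := by
  apply ext9 <;> intros <;> rw [mul_apply3] <;>
    simp [qmat, Matrix.one_apply, dotProduct] <;> ring

theorem emb_one : emb (1 : Matrix (Fin n) (Fin n) (ZMod 2)) = 1 := by
  apply ext9 <;> intros <;>
    simp [emb, one_00, one_01, one_0m, one_10, one_11, one_1m, one_m0, one_m1, one_mm]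

theorem emb_mul (A B : Matrix (Fin n) (Fin n) (ZMod 2)) : emb (A * B) = emb A * emb B := by
  apply ext9 <;> intros <;> rw [mul_apply3] <;>
    simp [emb, Matrix.mul_apply]

theorem zmod2_eq_one_of_mul : ∀ a b : ZMod 2, a * b = 1 → a = 1 := by decide

theorem zmod2_cases : ∀ a : ZMod 2, a = 0 ∨ a = 1 := by decide

theorem det_qmat (x : Heis n (ZMod 2)) : (qmat x).det = 1 := by
  apply zmod2_eq_one_of_mul _ (qmat x⁻¹).det
  rw [← Matrix.det_mul, ← qmat_mul, mul_inv_cancel, qmat_one, Matrix.det_one]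

theorem det_emb (A : Matrix (Fin n) (Fin n) (ZMod 2)) (hA : A.det = 1) : (emb A).det = 1 := by
  have hu : IsUnit A.det := by rw [hA]; exact isUnit_one
  apply zmod2_eq_one_of_mul _ (emb A⁻¹).det
  rw [← Matrix.det_mul, ← emb_mul, Matrix.mul_nonsing_inv A hu, emb_one, Matrix.det_one]

theorem qmat_injective : Function.Injective (qmat : Heis n (ZMod 2) → Mx n) := by
  intro x y h
  ext k
  · have := congrFun (congrFun h 0) (mid k)
    simpa [qmat] using this
  · have := congrFun (congrFun h (mid k)) 1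
    simpa [qmat] using this
  · have := congrFun (congrFun h 0) 1
    simpa [qmat] using this

/-- First column is `e₀`. -/
def Col0 (g : Mx n) : Prop := g 0 0 = 1 ∧ g 1 0 = 0 ∧ ∀ k : Fin n, g (mid k) 0 = 0

/-- Second row is `e₁`. -/
def Row1 (g : Mx n) : Prop := g 1 0 = 0 ∧ g 1 1 = 1 ∧ ∀ l : Fin n, g 1 (mid l) = 0

/-- The middle block. -/
def blk (g : Mx n) : Matrix (Fin n) (Fin n) (ZMod 2) := Matrix.of fun k l => g (mid k) (mid l)

@[simp] theorem blk_apply (g : Mx n) (k l : Fin n) : blk g k l = g (mid k) (mid l) := rfl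

theorem blk_one : blk (1 : Mx n) = 1 := by
  ext k l
  rw [blk_apply, one_mm]

theorem blk_mul {g h : Mx n} (hg : Col0 g) (hh : Row1 h) : blk (g * h) = blk g * blk h := by
  ext k l
  rw [blk_apply, mul_apply3, hg.2.2 k, hh.2.2 l, Matrix.mul_apply]
  simp

theorem col0_mul {g h : Mx n} (hg : Col0 g) (hh : Col0 h) : Col0 (g * h) := by
  refine ⟨?_, ?_, fun k => ?_⟩ <;> rw [mul_apply3] <;>
    simp [hg.1, hg.2.1, hg.2.2, hh.1, hh.2.1, hh.2.2]

theorem row1_mul {g h : Mx n} (hg : Row1 g) (hh : Row1 h) : Row1 (g * h) := by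
  refine ⟨?_, ?_, fun k => ?_⟩ <;> rw [mul_apply3] <;>
    simp [hg.1, hg.2.1, hg.2.2, hh.1, hh.2.1, hh.2.2]

theorem col0_qmat (x : Heis n (ZMod 2)) : Col0 (qmat x) := by
  refine ⟨?_, ?_, fun k => ?_⟩ <;> simp [qmat]

theorem row1_qmat (x : Heis n (ZMod 2)) : Row1 (qmat x) := by
  refine ⟨?_, ?_, fun k => ?_⟩ <;> simp [qmat]

theorem blk_qmat (x : Heis n (ZMod 2)) : blk (qmat x) = 1 := by
  ext k l
  simp [qmat]

theorem col0_emb (A : Matrix (Fin n) (Fin n) (ZMod 2)) : Col0 (emb A) := by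
  refine ⟨?_, ?_, fun k => ?_⟩ <;> simp [emb]

theorem row1_emb (A : Matrix (Fin n) (Fin n) (ZMod 2)) : Row1 (emb A) := by
  refine ⟨?_, ?_, fun k => ?_⟩ <;> simp [emb]

theorem blk_emb (A : Matrix (Fin n) (Fin n) (ZMod 2)) : blk (emb A) = A := by
  ext k l
  simp [emb]

/-- A matrix in the centralizer shape with trivial middle block is a Heisenberg matrix. -/
theorem eq_qmat_of_blk_eq_one {g : Mx n} (hc : Col0 g) (hr : Row1 g) (hb : blk g = 1) :
    g = qmat ⟨fun k => g 0 (mid k), fun k => g (mid k) 1, g 0 1⟩ := by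
  apply ext9 <;> intros <;> simp [qmat, hc.1, hc.2.1, hc.2.2, hr.1, hr.2.1, hr.2.2]
  rename_i k l
  rw [← blk_apply g, hb]

/-- Entrywise criterion for commuting with the transvection `1 + E₀₁`. -/
theorem commute_transvection_iff (g : Mx n) (hdet : g.det = 1) :
    g * Matrix.transvection 0 1 1 = Matrix.transvection 0 1 1 * g ↔ Col0 g ∧ Row1 g := by
  rw [Matrix.transvection, mul_add, add_mul, mul_one, one_mul, add_right_inj]
  constructor
  · intro h
    have e1 : ∀ i, i ≠ 0 → g i 0 = 0 := by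
      intro i hi
      have := congrFun (congrFun h i) 1
      rw [Matrix.mul_single_apply_same, Matrix.single_mul_apply_of_ne _ _ _ _ _ hi] at this
      simpa using this
    have e2 : ∀ j, j ≠ 1 → g 1 j = 0 := by
      intro j hj
      have := congrFun (congrFun h 0) j
      rw [Matrix.mul_single_apply_of_ne _ _ _ _ _ hj, Matrix.single_mul_apply_same] at this
      simpa using this.symm
    have e3 : g 0 0 = g 1 1 := by
      have := congrFun (congrFun h 0) 1
      rw [Matrix.mul_single_apply_same, Matrix.single_mul_apply_same] at this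
      simpa using this
    have e4 : g 0 0 = 1 := by
      rcases zmod2_cases (g 0 0) with h0 | h0
      · exfalso
        have : g.det = 0 := by
          apply Matrix.det_eq_zero_of_column_eq_zero 0
          intro i
          by_cases hi : i = 0
          · rw [hi]; exact h0
          · exact e1 i hi
        rw [this] at hdet
        exact zero_ne_one hdet
      · exact h0
    refine ⟨⟨e4, e1 1 zero_ne_one'.symm, fun k => e1 _ (mid_ne_zero k)⟩,
      ⟨e1 1 zero_ne_one'.symm, ?_, fun l => e2 _ (mid_ne_one l)⟩⟩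
    rw [← e3]; exact e4
  · rintro ⟨hc, hr⟩
    have e1 : ∀ i, i ≠ 0 → g i 0 = 0 := by
      refine cases3 (P := fun i => i ≠ 0 → g i 0 = 0) ?_ ?_ ?_
      · intro h; exact absurd rfl h
      · intro _; exact hc.2.1
      · intro k _; exact hc.2.2 k
    have e2 : ∀ j, j ≠ 1 → g 1 j = 0 := by
      refine cases3 (P := fun j => j ≠ 1 → g 1 j = 0) ?_ ?_ ?_
      · intro _; exact hr.1
      · intro h; exact absurd rfl h
      · intro l _; exact hr.2.2 l
    ext i j
    by_cases hj : j = 1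
    · subst hj
      rw [Matrix.mul_single_apply_same]
      by_cases hi : i = 0
      · subst hi
        rw [Matrix.single_mul_apply_same, hc.1, hr.2.1]
      · rw [Matrix.single_mul_apply_of_ne _ _ _ _ _ hi, e1 i hi]
        simp
    · rw [Matrix.mul_single_apply_of_ne _ _ _ _ _ hj]
      by_cases hi : i = 0
      · subst hi
        rw [Matrix.single_mul_apply_same, e2 j hj]
        simp
      · rw [Matrix.single_mul_apply_of_ne _ _ _ _ _ hi]

end Cfsg.Agent.Helper89.TV
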