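import Mathlib
import Cfsg.Prelude.Def_MonsterType
import Cfsg.Agent.Lib.Helper89.TV.Mat
import Cfsg.Agent.Lib.Helper63.HeisES
import Cfsg.Agent.Lib.Helper22.Radical
import Cfsg.Agent.S0839

set_option autoImplicit false
set_option linter.unusedSimpArgs false

namespace Cfsg.Agent.Helper89.TV

open Matrix Cfsg.Agent.Helper63

abbrev SLx (n : ℕ) := Matrix.SpecialLinearGroup (Fin (n + 2)) (ZMod 2)
abbrev SLn (n : ℕ) := Matrix.SpecialLinearGroup (Fin n) (ZMod 2)

variable {n : ℕ}

/-- The Heisenberg group inside `SL_{n+2}(2)`. -/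
def qSL : Heis n (ZMod 2) →* SLx n where
  toFun x := ⟨qmat x, det_qmat x⟩
  map_one' := Subtype.ext qmat_one
  map_mul' x y := Subtype.ext (qmat_mul x y)

@[simp] theorem qSL_coe (x : Heis n (ZMod 2)) : ((qSL x : SLx n) : Mx n) = qmat x := rfl

theorem qSL_injective : Function.Injective (qSL : Heis n (ZMod 2) → SLx n) := by
  intro x y h
  apply qmat_injective
  exact congrArg Subtype.val h

/-- The block-diagonal copy of `SL_n(2)` inside `SL_{n+2}(2)`. -/
def sig : SLn n →* SLx n where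
  toFun A := ⟨emb (A : Matrix (Fin n) (Fin n) (ZMod 2)), det_emb _ A.2⟩
  map_one' := Subtype.ext (by simp [emb_one])
  map_mul' A B := Subtype.ext (by
    show emb ((A * B : SLn n) : Matrix (Fin n) (Fin n) (ZMod 2)) = emb _ * emb _
    rw [Matrix.SpecialLinearGroup.coe_mul, emb_mul])

@[simp] theorem sig_coe (A : SLn n) :
    ((sig A : SLx n) : Mx n) = emb (A : Matrix (Fin n) (Fin n) (ZMod 2)) := rfl

theorem sig_injective : Function.Injective (sig : SLn n → SLx n) := by
  intro A B h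
  apply Subtype.ext
  have := congrArg (fun g : SLx n => blk (g : Mx n)) h
  simpa [blk_emb] using this

section

variable (z : SLx n) (hz : (z : Mx n) = Matrix.transvection 0 1 1)
include hz

theorem mem_C_iff (g : SLx n) :
    g ∈ Subgroup.centralizer ({z} : Set (SLx n)) ↔ Col0 (g : Mx n) ∧ Row1 (g : Mx n) := by
  rw [Subgroup.mem_centralizer_singleton_iff, ← commute_transvection_iff _ g.2, ← hz]
  constructor
  · intro h
    have := congrArg Subtype.val h
    simpa using this
  · intro h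
    apply Subtype.ext
    simpa using h

theorem qSL_mem_C (x : Heis n (ZMod 2)) : qSL x ∈ Subgroup.centralizer ({z} : Set (SLx n)) := by
  rw [mem_C_iff z hz]
  exact ⟨col0_qmat x, row1_qmat x⟩

theorem sig_mem_C (A : SLn n) : sig A ∈ Subgroup.centralizer ({z} : Set (SLx n)) := by
  rw [mem_C_iff z hz]
  exact ⟨col0_emb _, row1_emb _⟩

theorem blk_mul_of_mem {g h : SLx n} (hg : g ∈ Subgroup.centralizer ({z} : Set (SLx n)))
    (hh : h ∈ Subgroup.centralizer ({z} : Set (SLx n))) :
    blk ((g * h : SLx n) : Mx n) = blk (g : Mx n) * blk (h : Mx n) := by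
  rw [Matrix.SpecialLinearGroup.coe_mul]
  exact blk_mul ((mem_C_iff z hz g).mp hg).1 ((mem_C_iff z hz h).mp hh).2

theorem det_blk_of_mem {g : SLx n} (hg : g ∈ Subgroup.centralizer ({z} : Set (SLx n))) :
    (blk (g : Mx n)).det = 1 := by
  have hg' : g⁻¹ ∈ Subgroup.centralizer ({z} : Set (SLx n)) := Subgroup.inv_mem _ hg
  apply zmod2_eq_one_of_mul _ (blk ((g⁻¹ : SLx n) : Mx n)).det
  rw [← Matrix.det_mul, ← blk_mul_of_mem z hz hg hg', mul_inv_cancel,
    Matrix.SpecialLinearGroup.coe_one, blk_one, Matrix.det_one]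

/-- The projection of the centralizer onto the middle block. -/
def piHom : ↥(Subgroup.centralizer ({z} : Set (SLx n))) →* SLn n where
  toFun g := ⟨blk ((g : SLx n) : Mx n), det_blk_of_mem z hz g.2⟩
  map_one' := Subtype.ext (by simp [blk_one])
  map_mul' g h := Subtype.ext (by
    show blk (((g : SLx n) * (h : SLx n) : SLx n) : Mx n) = _
    rw [blk_mul_of_mem z hz g.2 h.2]
    rfl)

theorem piHom_sig (A : SLn n) : piHom z hz ⟨sig A, sig_mem_C z hz A⟩ = A := by
  apply Subtype.ext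
  show blk (emb _) = _
  rw [blk_emb]

theorem piHom_surjective : Function.Surjective (piHom z hz) := fun A =>
  ⟨⟨sig A, sig_mem_C z hz A⟩, piHom_sig z hz A⟩

theorem mem_ker_iff (g : ↥(Subgroup.centralizer ({z} : Set (SLx n)))) :
    g ∈ (piHom z hz).ker ↔ (g : SLx n) ∈ (qSL : Heis n (ZMod 2) →* SLx n).range := by
  rw [MonoidHom.mem_ker]
  constructor
  · intro h
    have hb : blk ((g : SLx n) : Mx n) = 1 := congrArg Subtype.val h
    obtain ⟨hc, hr⟩ := (mem_C_iff z hz g).mp g.2
    refine ⟨⟨fun k => ((g : SLx n) : Mx n) 0 (mid k), fun k => ((g : SLx n) : Mx n) (mid k) 1,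
      ((g : SLx n) : Mx n) 0 1⟩, ?_⟩
    apply Subtype.ext
    exact (eq_qmat_of_blk_eq_one hc hr hb).symm
  · rintro ⟨x, hx⟩
    apply Subtype.ext
    show blk ((g : SLx n) : Mx n) = _
    rw [← hx]
    simp [blk_qmat]

theorem ker_eq : (piHom z hz).ker =
    ((qSL : Heis n (ZMod 2) →* SLx n).range).subgroupOf
      (Subgroup.centralizer ({z} : Set (SLx n))) := by
  ext g
  rw [mem_ker_iff, Subgroup.mem_subgroupOf]

theorem range_qSL_le :
    (qSL : Heis n (ZMod 2) →* SLx n).range ≤ Subgroup.centralizer ({z} : Set (SLx n)) := by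
  rintro _ ⟨x, rfl⟩
  exact qSL_mem_C z hz x

theorem range_sig_le :
    (sig : SLn n →* SLx n).range ≤ Subgroup.centralizer ({z} : Set (SLx n)) := by
  rintro _ ⟨x, rfl⟩
  exact sig_mem_C z hz x

omit hz in
theorem range_inf : (qSL : Heis n (ZMod 2) →* SLx n).range ⊓ (sig : SLn n →* SLx n).range = ⊥ := by
  rw [eq_bot_iff]
  rintro g ⟨⟨x, hx⟩, ⟨A, hA⟩⟩
  rw [Subgroup.mem_bot]
  have h1 : blk ((g : SLx n) : Mx n) = 1 := by rw [← hx]; simp [blk_qmat]
  have h2 : blk ((g : SLx n) : Mx n) = (A : Matrix (Fin n) (Fin n) (ZMod 2)) := by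
    rw [← hA]; simp [blk_emb]
  have hA1 : A = 1 := by
    apply Subtype.ext
    rw [← h2, h1]; rfl
  rw [← hA, hA1, map_one]

theorem range_sup : (qSL : Heis n (ZMod 2) →* SLx n).range ⊔ (sig : SLn n →* SLx n).range =
    Subgroup.centralizer ({z} : Set (SLx n)) := by
  apply le_antisymm
  · exact sup_le (range_qSL_le z hz) (range_sig_le z hz)
  · intro g hg
    set A := piHom z hz ⟨g, hg⟩ with hA
    have hk : sig A ∈ Subgroup.centralizer ({z} : Set (SLx n)) := sig_mem_C z hz A
    have hker : (⟨g, hg⟩ * ⟨sig A, hk⟩⁻¹ : ↥(Subgroup.centralizer ({z} : Set (SLx n)))) ∈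
        (piHom z hz).ker := by
      rw [MonoidHom.mem_ker, map_mul, map_inv, piHom_sig, ← hA, mul_inv_cancel]
    rw [mem_ker_iff] at hker
    have e : g = (g * (sig A)⁻¹) * sig A := by group
    rw [e]
    exact Subgroup.mul_mem_sup hker ⟨A, rfl⟩

end

end Cfsg.Agent.Helper89.TV
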