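import Mathlib
import Cfsg.Agent.Lib.Helper89.TV.Group

set_option autoImplicit false
set_option linter.unusedSimpArgs false

namespace Cfsg.Agent.Helper89.TV

open Matrix Cfsg.Agent.Helper63

variable {n : ℕ}

/-- The natural action of a subgroup of `SL_n(2)` on vectors. -/
@[reducible] def vecAction (N : Subgroup (SLn n)) : MulAction ↥N (Fin n → ZMod 2) where
  smul g v := ((g : SLn n) : Matrix (Fin n) (Fin n) (ZMod 2)) *ᵥ v
  one_smul v := by
    show ((1 : SLn n) : Matrix (Fin n) (Fin n) (ZMod 2)) *ᵥ v = v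
    simp
  mul_smul g h v := by
    show (((g : SLn n) * (h : SLn n) : SLn n) : Matrix (Fin n) (Fin n) (ZMod 2)) *ᵥ v =
      ((g : SLn n) : Matrix (Fin n) (Fin n) (ZMod 2)) *ᵥ
        (((h : SLn n) : Matrix (Fin n) (Fin n) (ZMod 2)) *ᵥ v)
    rw [Matrix.SpecialLinearGroup.coe_mul, Matrix.mulVec_mulVec]

/-- A normal `2`-subgroup of `SL_n(2)` is trivial. -/
theorem normal_two_subgroup_eq_bot (hn : 1 ≤ n) (N : Subgroup (SLn n)) (hN : N.Normal)
    (hp : IsPGroup 2 N) : N = ⊥ := by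
  have : Fact (Nat.Prime 2) := ⟨Nat.prime_two⟩
  let _ : MulAction ↥N (Fin n → ZMod 2) := vecAction N
  have hsmul : ∀ (g : ↥N) (v : Fin n → ZMod 2),
      g • v = ((g : SLn n) : Matrix (Fin n) (Fin n) (ZMod 2)) *ᵥ v := fun _ _ => rfl
  have h1 := hp.card_modEq_card_fixedPoints (α := Fin n → ZMod 2)
  have hcard : Nat.card (Fin n → ZMod 2) = 2 ^ n := by
    rw [Nat.card_fun, Nat.card_zmod, Nat.card_fin]
  have h2 : 2 ∣ Nat.card (MulAction.fixedPoints ↥N (Fin n → ZMod 2)) := by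
    rw [← Nat.modEq_zero_iff_dvd]
    refine h1.symm.trans (Nat.modEq_zero_iff_dvd.mpr ?_)
    rw [hcard]
    exact dvd_pow_self 2 (by omega)
  have h0fix : (0 : Fin n → ZMod 2) ∈ MulAction.fixedPoints ↥N (Fin n → ZMod 2) := by
    intro g
    show ((g : SLn n) : Matrix (Fin n) (Fin n) (ZMod 2)) *ᵥ (0 : Fin n → ZMod 2) = 0
    simp
  have hcard2 : 1 < Nat.card (MulAction.fixedPoints ↥N (Fin n → ZMod 2)) := by
    have hne : Nonempty (MulAction.fixedPoints ↥N (Fin n → ZMod 2)) := ⟨⟨0, h0fix⟩⟩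
    have hpos : 0 < Nat.card (MulAction.fixedPoints ↥N (Fin n → ZMod 2)) := Nat.card_pos
    have h3 := Nat.le_of_dvd hpos h2
    omega
  have hnt : Nontrivial (MulAction.fixedPoints ↥N (Fin n → ZMod 2)) :=
    Finite.one_lt_card_iff_nontrivial.mp hcard2
  obtain ⟨y, hy⟩ := exists_ne (⟨0, h0fix⟩ : MulAction.fixedPoints ↥N (Fin n → ZMod 2))
  have hv0 : (y : Fin n → ZMod 2) ≠ 0 := fun e => hy (Subtype.ext e)
  have hvfix : ∀ g : ↥N, ((g : SLn n) : Matrix (Fin n) (Fin n) (ZMod 2)) *ᵥ (y : Fin n → ZMod 2) =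
      (y : Fin n → ZMod 2) := fun g => y.2 g
  rw [eq_bot_iff]
  intro g hg
  rw [Subgroup.mem_bot]
  apply Subtype.ext
  rw [Matrix.ext_iff_mulVec]
  intro w
  rw [Matrix.SpecialLinearGroup.coe_one, Matrix.one_mulVec]
  by_cases hw : w = 0
  · rw [hw]; simp
  · obtain ⟨h, μ, hμ, hh⟩ := Cfsg.Agent.S0839.exists_SL_mulVec (y : Fin n → ZMod 2) w hv0 hw
    have hμ1 : μ = 1 := by
      rcases zmod2_cases μ with e | e
      · exact absurd e hμ
      · exact e
    rw [hμ1, one_smul] at hh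
    have hconj : h⁻¹ * g * h ∈ N := by
      have := hN.conj_mem g hg h⁻¹
      simpa using this
    have h3 := hvfix ⟨h⁻¹ * g * h, hconj⟩
    have h4 : ((h⁻¹ * g * h : SLn n) : Matrix (Fin n) (Fin n) (ZMod 2)) =
        ((h⁻¹ : SLn n) : Matrix (Fin n) (Fin n) (ZMod 2)) * (g : Matrix (Fin n) (Fin n) (ZMod 2)) *
          (h : Matrix (Fin n) (Fin n) (ZMod 2)) := by
      simp [Matrix.SpecialLinearGroup.coe_mul]
    have h5 : (h : Matrix (Fin n) (Fin n) (ZMod 2)) *
        ((h⁻¹ : SLn n) : Matrix (Fin n) (Fin n) (ZMod 2)) = 1 := by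
      rw [← Matrix.SpecialLinearGroup.coe_mul, mul_inv_cancel, Matrix.SpecialLinearGroup.coe_one]
    show (g : Matrix (Fin n) (Fin n) (ZMod 2)) *ᵥ w = w
    have h6 : ((h⁻¹ : SLn n) : Matrix (Fin n) (Fin n) (ZMod 2)) *ᵥ
        ((g : Matrix (Fin n) (Fin n) (ZMod 2)) *ᵥ w) =
        ((h⁻¹ : SLn n) : Matrix (Fin n) (Fin n) (ZMod 2)) *ᵥ w := by
      have : ((h⁻¹ : SLn n) : Matrix (Fin n) (Fin n) (ZMod 2)) *ᵥ w = (y : Fin n → ZMod 2) := by
        rw [← hh, Matrix.mulVec_mulVec, ← Matrix.SpecialLinearGroup.coe_mul, inv_mul_cancel,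
          Matrix.SpecialLinearGroup.coe_one, Matrix.one_mulVec]
      rw [this, ← hh, Matrix.mulVec_mulVec, Matrix.mulVec_mulVec, ← h4]
      exact h3
    have h7 := congrArg (fun u => (h : Matrix (Fin n) (Fin n) (ZMod 2)) *ᵥ u) h6
    simp only [Matrix.mulVec_mulVec] at h7
    rw [← Matrix.mul_assoc, h5, Matrix.one_mul, Matrix.one_mulVec] at h7
    exact h7

theorem pCore_SLn_eq_bot (hn : 1 ≤ n) : Cfsg.pCore 2 (SLn n) = ⊥ := by
  have : Fact (Nat.Prime 2) := ⟨Nat.prime_two⟩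
  apply normal_two_subgroup_eq_bot hn
  · exact Subgroup.sSup_normal _ fun _ h => h.1
  · exact Helper22.isPGroup_pCore 2

theorem isPGroup_range_qSL : IsPGroup 2 ((qSL : Heis n (ZMod 2) →* SLx n).range) := by
  have : Fact (Nat.Prime 2) := ⟨Nat.prime_two⟩
  exact (Heis.isPGroup_zmod (n := n) 2).of_surjective (qSL : Heis n (ZMod 2) →* SLx n).rangeRestrict
    (qSL : Heis n (ZMod 2) →* SLx n).rangeRestrict_surjective

theorem card_range_qSL : Nat.card ((qSL : Heis n (ZMod 2) →* SLx n).range) = 2 ^ (2 * n + 1) := by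
  have : Fact (Nat.Prime 2) := ⟨Nat.prime_two⟩
  rw [← Nat.card_congr (MonoidHom.ofInjective (qSL_injective (n := n))).toEquiv,
    Heis.card_zmod 2]
  ring

theorem isExtraspecial_range_qSL (hn : 1 ≤ n) :
    Cfsg.IsExtraspecial 2 ↥((qSL : Heis n (ZMod 2) →* SLx n).range) := by
  have : Fact (Nat.Prime 2) := ⟨Nat.prime_two⟩
  exact isExtraspecial_of_mulEquiv (MonoidHom.ofInjective (qSL_injective (n := n)))
    (Heis.isExtraspecial_zmod 2 hn)

section

variable (z : SLx n) (hz : (z : Mx n) = Matrix.transvection 0 1 1)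
include hz

/-- `O₂(C(z))` is the Heisenberg group. -/
theorem pcOf_C (hn : 1 ≤ n) :
    (Cfsg.pCore 2 ↥(Subgroup.centralizer ({z} : Set (SLx n)))).map
      (Subgroup.centralizer ({z} : Set (SLx n))).subtype =
      (qSL : Heis n (ZMod 2) →* SLx n).range := by
  have : Fact (Nat.Prime 2) := ⟨Nat.prime_two⟩
  have hPn : (Cfsg.pCore 2 ↥(Subgroup.centralizer ({z} : Set (SLx n)))).Normal :=
    Subgroup.sSup_normal _ fun _ h => h.1
  have hPp : IsPGroup 2 (Cfsg.pCore 2 ↥(Subgroup.centralizer ({z} : Set (SLx n)))) :=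
    Helper22.isPGroup_pCore 2
  have hle := range_qSL_le z hz
  apply le_antisymm
  · have h1 : (Cfsg.pCore 2 ↥(Subgroup.centralizer ({z} : Set (SLx n)))).map (piHom z hz) = ⊥ :=
      normal_two_subgroup_eq_bot hn _ (hPn.map _ (piHom_surjective z hz)) (hPp.map _)
    have h2 : Cfsg.pCore 2 ↥(Subgroup.centralizer ({z} : Set (SLx n))) ≤ (piHom z hz).ker := by
      intro g hg
      rw [MonoidHom.mem_ker]
      have : piHom z hz g ∈ (Cfsg.pCore 2 ↥(Subgroup.centralizer ({z} : Set (SLx n)))).map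
          (piHom z hz) := ⟨g, hg, rfl⟩
      rw [h1, Subgroup.mem_bot] at this
      exact this
    rw [ker_eq] at h2
    have h3 := Subgroup.map_mono (f := (Subgroup.centralizer ({z} : Set (SLx n))).subtype) h2
    rwa [Subgroup.map_subgroupOf_eq_of_le hle] at h3
  · have h1 : (piHom z hz).ker ≤ Cfsg.pCore 2 ↥(Subgroup.centralizer ({z} : Set (SLx n))) := by
      apply Helper22.le_pCore (MonoidHom.normal_ker _)
      rw [ker_eq]
      exact isPGroup_range_qSL.comap_subtype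
    rw [ker_eq] at h1
    have h3 := Subgroup.map_mono (f := (Subgroup.centralizer ({z} : Set (SLx n))).subtype) h1
    rwa [Subgroup.map_subgroupOf_eq_of_le hle] at h3

end

end Cfsg.Agent.Helper89.TV
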