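import Mathlib
import Cfsg.Agent.Lib.Helper89.TV.Core
import Cfsg.Agent.S5422

set_option autoImplicit false
set_option linter.unusedSimpArgs false

namespace Cfsg.Agent.Helper89.TV

open Matrix Cfsg.Agent.Helper63

variable {n : ℕ}

theorem qmat_z : qmat (⟨0, 0, 1⟩ : Heis n (ZMod 2)) = Matrix.transvection 0 1 1 := by
  rw [Matrix.transvection]
  apply ext9 <;> intros <;>
    simp [qmat, Matrix.add_apply, Matrix.single_apply, one_00, one_01, one_0m, one_10, one_11,
      one_1m, one_m0, one_m1, one_mm, zero_ne_one', zero_ne_one'.symm, mid_ne_zero, mid_ne_one,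
      zero_ne_mid, one_ne_mid]

/-- A matrix of the centralizer shape commuting with all Heisenberg matrices is `1` or `z`. -/
theorem eq_qmat_of_commute {g : Mx n} (hc : Col0 g) (hr : Row1 g)
    (h : ∀ x : Heis n (ZMod 2), g * qmat x = qmat x * g) : g = qmat ⟨0, 0, g 0 1⟩ := by
  have hb : blk g = 1 := by
    ext k l
    have := congrFun (congrFun (h ⟨Pi.single k 1, 0, 0⟩) 0) (mid l)
    rw [mul_apply3, mul_apply3] at this
    simp [qmat, hc.1, hc.2.1, hc.2.2, hr.1, hr.2.1, hr.2.2, Pi.single_apply, Matrix.one_apply]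
      at this
    rw [blk_apply, Matrix.one_apply]
    have e : (if k = l then (1 : ZMod 2) else 0) = if l = k then 1 else 0 := by
      simp only [eq_comm]
    rw [e]
    linear_combination (-1 : ZMod 2) * this
  have h1 : ∀ k, g (mid k) 1 = 0 := by
    intro k
    have := congrFun (congrFun (h ⟨Pi.single k 1, 0, 0⟩) 0) 1
    rw [mul_apply3, mul_apply3] at this
    simpa [qmat, hc.1, hc.2.1, hc.2.2, hr.1, hr.2.1, hr.2.2, Pi.single_apply] using this.symm
  have h2 : ∀ k, g 0 (mid k) = 0 := by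
    intro k
    have := congrFun (congrFun (h ⟨0, Pi.single k 1, 0⟩) 0) 1
    rw [mul_apply3, mul_apply3] at this
    simpa [qmat, hc.1, hc.2.1, hc.2.2, hr.1, hr.2.1, hr.2.2, Pi.single_apply] using this
  have e : (⟨fun k => g 0 (mid k), fun k => g (mid k) 1, g 0 1⟩ : Heis n (ZMod 2)) =
      ⟨0, 0, g 0 1⟩ := by
    ext k <;> simp [h1, h2]
  rw [← e]
  exact eq_qmat_of_blk_eq_one hc hr hb

theorem tv_entries (k : Fin n) :
    Matrix.transvection 1 (mid k) (1 : ZMod 2) = mk9 1 0 0 0 1 (Pi.single k 1) 0 0 1 := by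
  rw [Matrix.transvection]
  apply ext9 <;> intros <;>
    simp [Matrix.add_apply, Matrix.single_apply, one_00, one_01, one_0m, one_10, one_11,
      one_1m, one_m0, one_m1, one_mm, zero_ne_one', zero_ne_one'.symm, mid_ne_zero, mid_ne_one,
      zero_ne_mid, one_ne_mid, Pi.single_apply, eq_comm]

theorem tv_conj (k : Fin n) :
    Matrix.transvection 1 (mid k) (1 : ZMod 2) * qmat ⟨0, 0, 1⟩ =
      qmat ⟨Pi.single k 1, 0, 1⟩ * Matrix.transvection 1 (mid k) (1 : ZMod 2) := by
  rw [tv_entries]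
  apply ext9 <;> intros <;> rw [mul_apply3, mul_apply3] <;>
    simp [qmat, Pi.single_apply, Matrix.one_apply]
  rename_i l
  by_cases h : l = k <;> simp [h]
  decide

/-- The elementary abelian subgroup `{b = 0}` of the Heisenberg group. -/
def A0 (n : ℕ) : Subgroup (Heis n (ZMod 2)) where
  carrier := {x | x.b = 0}
  mul_mem' := by
    intro x y hx hy
    have hx' : x.b = 0 := hx
    have hy' : y.b = 0 := hy
    show (x * y).b = 0
    simp [hx', hy']
  one_mem' := rfl
  inv_mem' := by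
    intro x hx
    have hx' : x.b = 0 := hx
    show (x⁻¹).b = 0
    simp [hx']

theorem mem_A0 {x : Heis n (ZMod 2)} : x ∈ A0 n ↔ x.b = 0 := Iff.rfl

def A0equiv (n : ℕ) : ↥(A0 n) ≃ (Fin n → ZMod 2) × ZMod 2 where
  toFun x := (x.1.a, x.1.c)
  invFun p := ⟨⟨p.1, 0, p.2⟩, rfl⟩
  left_inv x := by
    apply Subtype.ext
    ext k
    · rfl
    · have : x.1.b = 0 := x.2
      rw [this]
    · rfl
  right_inv p := rfl

theorem card_A0 : Nat.card ↥(A0 n) = 2 ^ (n + 1) := by
  rw [Nat.card_congr (A0equiv n), Nat.card_prod, Nat.card_fun, Nat.card_zmod, Nat.card_fin]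
  ring

theorem A0_comm {x y : Heis n (ZMod 2)} (hx : x ∈ A0 n) (hy : y ∈ A0 n) : x * y = y * x := by
  have hx' : x.b = 0 := hx
  have hy' : y.b = 0 := hy
  ext k
  · simp [add_comm]
  · simp [add_comm]
  · simp [hx', hy', add_comm]

theorem A0_sq {x : Heis n (ZMod 2)} (hx : x ∈ A0 n) : x * x = 1 := by
  have hx' : x.b = 0 := hx
  ext k
  · simp [CharTwo.add_self_eq_zero]
  · simp [hx']
  · simp [hx', CharTwo.add_self_eq_zero]

theorem elementary_E :
    Cfsg.IsElementaryAbelian 2 ((A0 n).map (qSL : Heis n (ZMod 2) →* SLx n)) ∧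
      Nat.card ↥((A0 n).map (qSL : Heis n (ZMod 2) →* SLx n)) = 2 ^ (n + 1) := by
  refine ⟨⟨⟨⟨?_⟩⟩, ?_⟩, ?_⟩
  · rintro ⟨_, x, hx, rfl⟩ ⟨_, y, hy, rfl⟩
    apply Subtype.ext
    show qSL x * qSL y = qSL y * qSL x
    rw [← map_mul, ← map_mul, A0_comm hx hy]
  · rintro _ ⟨x, hx, rfl⟩
    rw [pow_two, ← map_mul, A0_sq hx, map_one]
  · rw [Subgroup.card_map_of_injective qSL_injective, card_A0]

section

variable (z : SLx n) (hz : (z : Mx n) = Matrix.transvection 0 1 1)
include hz

theorem z_eq : z = qSL ⟨0, 0, 1⟩ := Subtype.ext (by rw [hz]; exact qmat_z.symm)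

theorem z_mem_range : z ∈ (qSL : Heis n (ZMod 2) →* SLx n).range := ⟨_, (z_eq z hz).symm⟩

theorem z_sq : z * z = 1 := by
  rw [z_eq z hz, ← map_mul]
  have : (⟨0, 0, 1⟩ : Heis n (ZMod 2)) * ⟨0, 0, 1⟩ = 1 := by
    ext k
    · simp
    · simp
    · simp
      decide
  rw [this, map_one]

theorem z_ne_one : z ≠ 1 := by
  rw [z_eq z hz]
  intro h
  have := qSL_injective (h.trans (map_one _).symm)
  have h2 := congrArg Heis.c this
  simp at h2

theorem eq_one_or_z_of_centralizes (g : SLx n)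
    (hg : ∀ q ∈ (qSL : Heis n (ZMod 2) →* SLx n).range, q * g = g * q) : g = 1 ∨ g = z := by
  have hgC : g ∈ Subgroup.centralizer ({z} : Set (SLx n)) := by
    rw [Subgroup.mem_centralizer_singleton_iff]
    exact (hg z (z_mem_range z hz)).symm
  obtain ⟨hc, hr⟩ := (mem_C_iff z hz g).mp hgC
  have h : ∀ x : Heis n (ZMod 2), (g : Mx n) * qmat x = qmat x * (g : Mx n) := by
    intro x
    have := congrArg Subtype.val (hg (qSL x) ⟨x, rfl⟩)
    simpa using this.symm
  have e := eq_qmat_of_commute hc hr h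
  rcases zmod2_cases ((g : Mx n) 0 1) with e0 | e0
  · left
    apply Subtype.ext
    rw [e, e0]
    exact qmat_one
  · right
    apply Subtype.ext
    rw [e, e0, hz]
    exact qmat_z

theorem center_map_eq :
    (Subgroup.center ↥((qSL : Heis n (ZMod 2) →* SLx n).range)).map
      ((qSL : Heis n (ZMod 2) →* SLx n).range).subtype = Subgroup.zpowers z := by
  apply le_antisymm
  · rintro _ ⟨c, hc, rfl⟩
    apply one_or_self_mem_zpowers
    apply eq_one_or_z_of_centralizes z hz
    intro q hq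
    have := Subgroup.mem_center_iff.mp hc ⟨q, hq⟩
    exact congrArg Subtype.val this
  · rw [Subgroup.zpowers_le]
    refine ⟨⟨z, z_mem_range z hz⟩, ?_, rfl⟩
    rw [SetLike.mem_coe, Subgroup.mem_center_iff]
    intro q
    apply Subtype.ext
    have hq : (q : SLx n) ∈ Subgroup.centralizer ({z} : Set (SLx n)) := range_qSL_le z hz q.2
    exact Subgroup.mem_centralizer_singleton_iff.mp hq

theorem centralizer_range_eq :
    Subgroup.centralizer (((qSL : Heis n (ZMod 2) →* SLx n).range : Subgroup (SLx n)) : Set (SLx n)) =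
      (Subgroup.center ↥((qSL : Heis n (ZMod 2) →* SLx n).range)).map
        ((qSL : Heis n (ZMod 2) →* SLx n).range).subtype := by
  apply le_antisymm
  · intro g hg
    rw [center_map_eq z hz]
    apply one_or_self_mem_zpowers
    apply eq_one_or_z_of_centralizes z hz
    intro q hq
    exact (Subgroup.mem_centralizer_iff.mp hg) q hq
  · rintro _ ⟨c, hc, rfl⟩
    rw [Subgroup.mem_centralizer_iff]
    intro q hq
    have := Subgroup.mem_center_iff.mp hc ⟨q, hq⟩
    exact congrArg Subtype.val this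

end

theorem main (hn : 2 ≤ n) (z : SLx n) (hz : (z : Mx n) = Matrix.transvection 0 1 1)
    (Q : Subgroup (SLx n))
    (hQ : Q = (Cfsg.pCore 2 ↥(Subgroup.centralizer ({z} : Set (SLx n)))).map
      (Subgroup.centralizer ({z} : Set (SLx n))).subtype) :
    Cfsg.IsExtraspecial 2 ↥Q ∧ Nat.card ↥Q = 2 ^ (2 * n + 1) ∧
    (∃ E : Subgroup (SLx n), E ≤ Q ∧ Cfsg.IsElementaryAbelian 2 E ∧ Nat.card ↥E = 2 ^ (n + 1)) ∧
    Cfsg.IsLargeExtraspecial Q ∧
    ∃ K : Subgroup (SLx n), K ≤ Subgroup.centralizer ({z} : Set (SLx n)) ∧ Q ⊓ K = ⊥ ∧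
      Q ⊔ K = Subgroup.centralizer ({z} : Set (SLx n)) ∧ Nonempty (↥K ≃* SLn n) := by
  have hn1 : 1 ≤ n := by omega
  rw [pcOf_C z hz hn1] at hQ
  subst hQ
  have hES := isExtraspecial_range_qSL (n := n) hn1
  refine ⟨hES, card_range_qSL, ⟨(A0 n).map qSL, ?_, elementary_E.1, elementary_E.2⟩, ?_,
    (sig : SLn n →* SLx n).range, range_sig_le z hz, range_inf, range_sup z hz,
    ⟨(MonoidHom.ofInjective sig_injective).symm⟩⟩
  · rintro _ ⟨x, _, rfl⟩
    exact ⟨x, rfl⟩
  · have hk0 : 0 < n := by omega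
    set k0 : Fin n := ⟨0, hk0⟩ with hk0def
    set t : SLx n := Matrix.SpecialLinearGroup.transvection (one_ne_mid k0) 1 with htdef
    have ht : t * z = qSL ⟨Pi.single k0 1, 0, 1⟩ * t := by
      apply Subtype.ext
      rw [Matrix.SpecialLinearGroup.coe_mul, Matrix.SpecialLinearGroup.coe_mul, hz, ← qmat_z]
      exact tv_conj k0
    have htz : t * z * t⁻¹ = qSL ⟨Pi.single k0 1, 0, 1⟩ := by rw [ht]; group
    have hne : (qSL ⟨Pi.single k0 1, 0, 1⟩ : SLx n) ≠ z := by
      rw [z_eq z hz]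
      intro h
      have := qSL_injective h
      have h2 := congrArg (fun x : Heis n (ZMod 2) => x.a k0) this
      simp at h2
    have hne1 : (qSL ⟨Pi.single k0 1, 0, 1⟩ : SLx n) ≠ 1 := by
      intro h
      have := qSL_injective (h.trans (map_one _).symm)
      have h2 := congrArg Heis.c this
      simp at h2
    have hnorm : Subgroup.centralizer ({z} : Set (SLx n)) ≤
        Subgroup.normalizer (((qSL : Heis n (ZMod 2) →* SLx n).range : Subgroup (SLx n)) :
          Set (SLx n)) := by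
      have h1 : (((qSL : Heis n (ZMod 2) →* SLx n).range).subgroupOf
          (Subgroup.centralizer ({z} : Set (SLx n)))).Normal := by
        rw [← ker_eq z hz]; exact MonoidHom.normal_ker _
      exact (Subgroup.normal_subgroupOf_iff_le_normalizer (range_qSL_le z hz)).mp h1
    refine (Cfsg.Agent.S5422.result _ hES (centralizer_range_eq z hz) ?_ n hn card_range_qSL t
      ?_ ?_).2.2
    · rw [center_map_eq z hz]
      intro g hg
      apply hnorm
      rw [Subgroup.mem_centralizer_singleton_iff]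
      exact ((Subgroup.mem_centralizer_iff.mp hg) z (Subgroup.mem_zpowers z)).symm
    · rw [center_map_eq z hz]
      intro h
      have := (Subgroup.mem_normalizer_iff.mp h z).mp (Subgroup.mem_zpowers z)
      rw [htz] at this
      rcases mem_zpowers_of_sq_eq_one (z_sq z hz) this with e | e
      · exact hne1 e
      · exact hne e
    · rw [center_map_eq z hz, MonoidHom.map_zpowers, Subgroup.zpowers_le]
      show t * z * t⁻¹ ∈ _
      rw [htz]
      exact ⟨_, rfl⟩

end Cfsg.Agent.Helper89.TV
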